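import Cfsg.Agent.H64.DegreeLtPrime.Simple
import Cfsg.Agent.H36.NoSimple

/-!
# Counting characters: no simple group has all degrees less than a prime divisor of its order
-/

set_option autoImplicit false
set_option linter.unusedSectionVars false
set_option linter.style.haveILetI false

open scoped ComplexConjugate

namespace Cfsg.Agent.H64.DegreeLtPrime

open Cfsg.Agent.CharBasic Finset

variable {p : ℕ} [hp : Fact p.Prime] {G : Type*} [Group G] [Finite G]

/-- The number of irreducible characters fixed by `g ↦ g ^ b`. -/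
noncomputable def nfix (G : Type*) [Group G] (b : ℕ) : ℕ :=
  Nat.card {χ : IrrCharacter G // (χ : G → ℂ) ∘ (fun g => g ^ b) = χ}

/-- The number of `u` carrying `g` to `g ^ b`. -/
noncomputable def ntrans (b : ℕ) (g : G) : ℕ := Nat.card {u : G // u * g * u⁻¹ = g ^ b}

theorem nfix_mul [Fintype G] {b : ℕ} (hb : b.Coprime (Nat.card G)) :
    nfix G b * Nat.card G = ∑ g : G, ntrans b g := by
  rw [nfix, CharInduce.card_fixed_irr_mul _ (isIrr_comp_pow hb)]
  simp only [ntrans]
  rw [← Nat.card_sigma]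
  exact Nat.card_congr (Equiv.subtypeProdEquivSigmaSubtype fun g x => x * g * x⁻¹ = g ^ b)

theorem conj_pow_iterate {g u : G} {k : ℕ} (h : u * g * u⁻¹ = g ^ k) (j : ℕ) :
    u ^ j * g * (u ^ j)⁻¹ = g ^ k ^ j := by
  induction j with
  | zero => simp
  | succ j ih =>
    calc u ^ (j + 1) * g * (u ^ (j + 1))⁻¹ = u * (u ^ j * g * (u ^ j)⁻¹) * u⁻¹ := by
          rw [pow_succ']; group
      _ = (u * g * u⁻¹) ^ k ^ j := by rw [ih, conj_pow]
      _ = g ^ k ^ (j + 1) := by rw [h, ← pow_mul, pow_succ']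

/-- The degree, trivial multiplicity and norm of a character restricted to an abelian subgroup. -/
theorem exists_restriction_bound [Fintype G] {χ : G → ℂ} (hχ : IsCharacter G χ) (X : Subgroup G)
    [Fintype X] (hX : ∀ a b : X, a * b = b * a) :
    ∃ n m₀ Q : ℕ, χ 1 = (n : ℂ) ∧ ∑ w : X, χ w = (m₀ : ℂ) * (Nat.card X : ℂ) ∧
      ∑ w : X, χ w * conj (χ w) = (Q : ℂ) * (Nat.card X : ℂ) ∧ m₀ ≤ n ∧
      m₀ ^ 2 + n ≤ Q + m₀ := by
  classical
  have hres := CharInduce.IsChar.res hχ X
  have hlin := (commutative_iff_forall_linear (G := X)).1 hX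
  choose a ha using fun θ : IrrCharacter X =>
    classInner_isChar_nat hres (IsIrr.isCharacter θ.2)
  let one : IrrCharacter X := ⟨_, isIrrCharacter_one⟩
  refine ⟨∑ θ, a θ, a one, ∑ θ, a θ ^ 2, ?_, ?_, ?_, ?_, ?_⟩
  · have h := congrFun (classFunction_expansion (IsChar.isClassFunction hres)) 1
    simp only [Finset.sum_apply, Pi.smul_apply, smul_eq_mul, hlin, mul_one, OneMemClass.coe_one,
      ha] at h
    exact_mod_cast h
  · rw [← ha one, classInner_def]
    have := CharInduce.card_ne_zero_complex X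
    simp only [one, map_one, mul_one]
    field_simp
  · have h := classInner_eq_sum (ψ := fun w : X => χ w) (IsChar.isClassFunction hres)
    simp only [ha, Complex.conj_natCast] at h
    rw [classInner_def] at h
    have := CharInduce.card_ne_zero_complex X
    push_cast
    simp only [sq]
    rw [← h]
    field_simp
  · exact Finset.single_le_sum (fun θ _ => Nat.zero_le (a θ)) (Finset.mem_univ one)
  · rw [← Finset.add_sum_erase _ a (Finset.mem_univ one),
      ← Finset.add_sum_erase _ (fun θ => a θ ^ 2) (Finset.mem_univ one)]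
    have : ∑ θ ∈ univ.erase one, a θ ≤ ∑ θ ∈ univ.erase one, a θ ^ 2 :=
      Finset.sum_le_sum fun θ _ => Nat.le_self_pow two_ne_zero _
    omega

theorem false_of_simple [IsSimpleGroup G] (hG : ¬ IsMulCommutative G) (hS : Small p G)
    (hd : p ∣ Nat.card G) : False := by
  classical
  cases nonempty_fintype G
  have hp2 : p ≠ 2 := by
    rintro rfl
    exact hG ⟨⟨Small.comm_two hS⟩⟩
  have hp3 : 3 ≤ p := by have := hp.out.two_le; omega
  obtain ⟨a, hacop, hreg, hgen, hord⟩ := exists_twist_exponent (G := G) hp.out hp2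
  -- three fixed classes
  have hfix3 : 3 ≤ nfix G a := by
    rw [nfix, CharInduce.card_fixed_irr_eq_card_fixed_classes _ (isIrr_comp_pow hacop)]
    have hpf := H30.SmallSimple.three_le_primeFactors hG
    have h2 : 1 < ((Nat.card G).primeFactors.erase p).card := by
      rw [Finset.card_erase_of_mem (Nat.mem_primeFactors.2 ⟨hp.out, hd, Nat.card_pos.ne'⟩)]
      omega
    obtain ⟨q, hq, s, hs, hqs⟩ := Finset.one_lt_card.1 h2
    simp only [Finset.mem_erase, Nat.mem_primeFactors] at hq hs
    obtain ⟨y, hy⟩ := exists_prime_orderOf_dvd_card' (G := G) (hp := ⟨hq.2.1⟩) q hq.2.2.1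
    obtain ⟨z, hz⟩ := exists_prime_orderOf_dvd_card' (G := G) (hp := ⟨hs.2.1⟩) s hs.2.2.1
    have hf : ∀ g : G, ¬ p ∣ orderOf g → ∀ h : G, ConjClasses.mk h = ConjClasses.mk g →
        IsConj h (h ^ a) := by
      intro g hg h hh
      obtain ⟨c, hc⟩ := isConj_iff.1 (ConjClasses.mk_eq_mk_iff_isConj.1 hh).symm
      rw [← hc, conj_pow, hreg g hg]
    have hnd : ∀ r : ℕ, r.Prime → r ≠ p → ∀ g : G, orderOf g = r → ¬ p ∣ orderOf g :=
      fun r hr hne g hg h => hne ((Nat.prime_dvd_prime_iff_eq hp.out hr).1 (hg ▸ h)).symm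
    have key : ∀ g h : G, ConjClasses.mk g = ConjClasses.mk h → orderOf g = orderOf h := fun g h e => by
      obtain ⟨c, rfl⟩ := isConj_iff.1 (ConjClasses.mk_eq_mk_iff_isConj.1 e)
      rw [← MulAut.conj_apply, MulEquiv.orderOf_eq]
    haveI : Finite (ConjClasses G) := Finite.of_surjective _ ConjClasses.mk_surjective
    let T := {C : ConjClasses G // ∀ g : G, ConjClasses.mk g = C → IsConj g (g ^ a)}
    let F : Fin 3 → T := ![⟨ConjClasses.mk 1, hf 1 (by simp [hp.out.ne_one])⟩,
      ⟨ConjClasses.mk y, hf y (hnd q hq.2.1 hq.1 y hy)⟩,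
      ⟨ConjClasses.mk z, hf z (hnd s hs.2.1 hs.1 z hz)⟩]
    have hF : Function.Injective F := by
      have ne : ∀ (g h : G) hg hh, orderOf g ≠ orderOf h →
          (⟨ConjClasses.mk g, hg⟩ : T) ≠ ⟨ConjClasses.mk h, hh⟩ :=
        fun g h _ _ hne e => hne (key g h (congrArg Subtype.val e))
      have h01 : orderOf (1 : G) ≠ orderOf y := by rw [orderOf_one, hy]; exact hq.2.1.ne_one.symm
      have h02 : orderOf (1 : G) ≠ orderOf z := by rw [orderOf_one, hz]; exact hs.2.1.ne_one.symm
      have h12 : orderOf y ≠ orderOf z := by rw [hy, hz]; exact hqs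
      intro i j hij
      fin_cases i <;> fin_cases j <;>
        first
          | rfl
          | exact absurd hij (ne _ _ _ _ h01) | exact absurd hij (ne _ _ _ _ h01.symm)
          | exact absurd hij (ne _ _ _ _ h02) | exact absurd hij (ne _ _ _ _ h02.symm)
          | exact absurd hij (ne _ _ _ _ h12) | exact absurd hij (ne _ _ _ _ h12.symm)
    have := Nat.card_le_card_of_injective F hF
    rwa [Nat.card_fin] at this
  let one : IrrCharacter G := ⟨_, isIrrCharacter_one⟩
  let Fixed : IrrCharacter G → Prop := fun χ => (χ : G → ℂ) ∘ (fun g => g ^ a) = χ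
  have hnfix : nfix G a = (univ.filter Fixed).card := by
    rw [nfix, Nat.card_eq_fintype_card, Fintype.card_subtype]
  obtain ⟨χ₁, hχ₁, hχ₁'⟩ : ∃ χ : IrrCharacter G, Fixed χ ∧ χ ≠ one := by
    obtain ⟨u, hu, v, hv, huv⟩ := Finset.one_lt_card.1 (show 1 < (univ.filter Fixed).card by omega)
    rcases eq_or_ne u one with rfl | h
    · exact ⟨v, (Finset.mem_filter.1 hv).2, huv.symm⟩
    · exact ⟨u, (Finset.mem_filter.1 hu).2, h⟩
  have hne_one : ∀ χ : IrrCharacter G, χ ≠ one → (χ : G → ℂ) ≠ fun _ => 1 :=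
    fun χ h e => h (Subtype.ext e)
  -- the Sylow subgroup has order `p` and is self-centralizing
  obtain ⟨P⟩ := Sylow.nonempty (p := p) (G := G)
  have hP : ∀ Q : Sylow p G, Nat.card (Q : Subgroup G) = p :=
    card_sylow_of_fixed hS hp2 hd hgen χ₁.2 (hne_one _ hχ₁') (fun g => congrFun hχ₁ g)
  have hcent : ∀ x : G, orderOf x = p →
      Subgroup.centralizer ({x} : Set G) = Subgroup.zpowers x := by
    intro x hx
    have hpg : IsPGroup p (Subgroup.centralizer ({x} : Set G)) := by
      rintro ⟨d, hdC⟩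
      obtain ⟨i, o, ho, hio⟩ := Nat.exists_eq_pow_mul_and_not_dvd (orderOf_pos d).ne' p hp.out.ne_one
      refine ⟨i, Subtype.ext ?_⟩
      show d ^ p ^ i = 1
      have hord' : orderOf (d ^ p ^ i) = o := by
        rw [orderOf_pow_of_dvd (pow_ne_zero _ hp.out.ne_zero) (hio ▸ dvd_mul_right _ _), hio,
          Nat.mul_div_cancel_left _ (pow_pos hp.out.pos i)]
      refine eq_one_of_commute_of_fixed hG hS hreg hgen χ₁.2 (hne_one _ hχ₁')
        (fun g => congrFun hχ₁ g) hx (by rw [hord']; exact ho) ?_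
      exact (show Commute x d from
        (Subgroup.mem_centralizer_iff.1 hdC x rfl)).pow_right _
    obtain ⟨Q, hQ⟩ := hpg.exists_le_sylow
    refine le_antisymm ?_ (Subgroup.zpowers_le.2 (Subgroup.mem_centralizer_singleton_iff.2 rfl))
    refine hQ.trans (le_of_eq (Eq.symm ?_))
    exact H36.sylow_eq_zpowers Q (hP Q) hx (hQ (Subgroup.mem_centralizer_singleton_iff.2 rfl))
  have hsing : ∀ g : G, p ∣ orderOf g → orderOf g = p := by
    intro g hg
    set u := g ^ (orderOf g / p) with hu
    have hu' : orderOf u = p := orderOf_pow_orderOf_div (orderOf_pos g).ne' hg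
    have hmem : g ∈ Subgroup.centralizer ({u} : Set G) :=
      Subgroup.mem_centralizer_singleton_iff.2 ((Commute.refl g).pow_right _).eq
    rw [hcent u hu'] at hmem
    rcases (Nat.dvd_prime hp.out).1 (hu' ▸ orderOf_dvd_of_mem_zpowers hmem) with h | h
    · rw [h] at hg; exact absurd (Nat.dvd_one.1 hg) hp.out.ne_one
    · exact h
  obtain ⟨x, hx⟩ := exists_prime_orderOf_dvd_card' p hd
  have hCQ : ∀ Q : Sylow p G, Nat.card (Subgroup.centralizer ((Q : Subgroup G) : Set G)) = p := by
    intro Q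
    obtain ⟨v, hv⟩ := exists_prime_orderOf_dvd_card' (G := (Q : Subgroup G)) p
      (Q.dvd_card_of_dvd_card hd)
    have hv' : orderOf (v : G) = p := by rw [Subgroup.orderOf_coe, hv]
    have hle : Subgroup.centralizer ((Q : Subgroup G) : Set G) ≤ Subgroup.zpowers (v : G) := by
      rw [← hcent _ hv']
      exact Subgroup.centralizer_le (Set.singleton_subset_iff.2 v.2)
    have h1 := Subgroup.card_dvd_of_le hle
    rw [Nat.card_zpowers, hv'] at h1
    exact Nat.dvd_antisymm h1 (H36.dvd_card_centralizer_of_prime hp.out _ (hP Q))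
  set nS := Nat.card (Sylow p G)
  obtain ⟨e, he⟩ : p ∣ Nat.card (Subgroup.normalizer ((P : Subgroup G) : Set G)) :=
    (hP P).symm.dvd.trans (Subgroup.card_dvd_of_le Subgroup.le_normalizer)
  obtain ⟨r', c, hr1, hrd, hrc, hC⟩ := H36.exists_relIndex_centralizer hG P (hP P) he
  have hc1 : c = 1 := by
    rw [hCQ P] at hC
    exact (Nat.mul_eq_left hp.out.ne_zero).1 hC.symm
  subst hc1
  rw [mul_one] at hrc
  subst hrc
  obtain ⟨f, hef⟩ := hrd
  have hcardG : Nat.card G = nS * (p * r') := by
    rw [← H36.card_sylow_mul_normalizer P, he]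
  -- conjugacy inside `zpowers g`
  have hkey : ∀ g : G, orderOf g = p → ∀ u : G, ∀ k : ℕ, u * g * u⁻¹ = g ^ k →
      k ^ r' ≡ 1 [MOD p] := by
    intro g hg u k hk
    obtain ⟨Q, hQ⟩ := H36.exists_sylow_mem hg
    have hQz := H36.sylow_eq_zpowers Q (hP Q) hg hQ
    set N := Subgroup.normalizer ((Q : Subgroup G) : Set G)
    set C := Subgroup.centralizer ((Q : Subgroup G) : Set G) with hCdef
    have huN : u ∈ N := by
      refine Subgroup.mem_normalizer_iff_map_conj_eq.2 ?_
      refine Subgroup.eq_of_le_of_card_ge ?_ (le_of_eq ?_)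
      · rw [← hQz, MonoidHom.map_zpowers, Subgroup.zpowers_le]
        show MulAut.conj u g ∈ _
        rw [MulAut.conj_apply, hk]
        exact pow_mem (Subgroup.mem_zpowers g) k
      · exact (Subgroup.card_map_of_injective (MulAut.conj u).injective).symm
    have hidx : (C.subgroupOf N).index = r' := by
      have h := H36.card_normalizer_eq_mul (Q : Subgroup G)
      have hN : nS * Nat.card N = nS * (p * r') :=
        (H36.card_sylow_mul_normalizer Q).trans hcardG
      have hnS : 0 < nS := Nat.card_pos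
      have hN' : Nat.card N = p * r' := Nat.eq_of_mul_eq_mul_left hnS hN
      change Nat.card N = _ at h
      rw [hN', hCQ Q] at h
      exact (Nat.eq_of_mul_eq_mul_left hp.out.pos h).symm
    haveI : (C.subgroupOf N).Normal := by
      rw [hCdef, ← Subgroup.normalizerMonoidHom_ker]
      infer_instance
    have hmem := Subgroup.pow_index_mem (C.subgroupOf N) (⟨u, huN⟩ : N)
    rw [hidx, Subgroup.mem_subgroupOf, SubgroupClass.coe_pow] at hmem
    have h1 := Subgroup.mem_centralizer_iff.1 hmem g hQ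
    have h2 := conj_pow_iterate hk r'
    rw [← h1, mul_inv_cancel_right] at h2
    have h3 := pow_eq_pow_iff_modEq.1 ((pow_one g).trans h2)
    rw [hg] at h3
    exact h3.symm
  -- counting
  have hnord : Nat.card {g : G // orderOf g = p} = nS * (p - 1) := H36.card_orderOf_eq P (hP P)
  set Sreg := ∑ g ∈ univ.filter (fun g : G => ¬ p ∣ orderOf g), ntrans 1 g
  have hcopi : ∀ i, (a ^ i).Coprime (Nat.card G) := fun i => hacop.pow_left i
  have hregi : ∀ i, ∀ g : G, ¬ p ∣ orderOf g → g ^ a ^ i = g := fun i g hg => by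
    induction i with
    | zero => simp
    | succ i ih => rw [pow_succ, pow_mul, ih, hreg g hg]
  have hsplit : ∀ b : ℕ, (∀ g : G, ¬ p ∣ orderOf g → g ^ b = g) →
      ∑ g : G, ntrans b g = Sreg + ∑ g ∈ univ.filter (fun g : G => p ∣ orderOf g), ntrans b g := by
    intro b hb
    rw [← Finset.sum_filter_add_sum_filter_not univ (fun g : G => ¬ p ∣ orderOf g)]
    congr 1
    · refine Finset.sum_congr rfl fun g hg => ?_
      rw [ntrans, ntrans, hb g (Finset.mem_filter.1 hg).2, pow_one]
    · simp only [not_not]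
  have hone : ∀ g : G, orderOf g = p → ntrans 1 g = p := fun g hg => by
    rw [ntrans]
    simp only [pow_one]
    rw [CharBasic.card_conj_eq_centralizer g, hcent g hg, Nat.card_zpowers, hg]
  have hnordc : (univ.filter (fun g : G => p ∣ orderOf g)).card = nS * (p - 1) := by
    rw [← hnord, Nat.card_eq_fintype_card, Fintype.card_subtype]
    exact congrArg Finset.card (Finset.filter_congr fun g _ =>
      ⟨hsing g, fun h => h.symm ▸ dvd_rfl⟩)
  have hk1 : Nat.card (IrrCharacter G) * Nat.card G = Sreg + f * Nat.card G := by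
    have h := nfix_mul (G := G) (b := 1) (Nat.coprime_one_left _)
    rw [hsplit 1 (fun g _ => pow_one g), Finset.sum_congr rfl (fun g hg =>
      hone g (hsing g (Finset.mem_filter.1 hg).2)), Finset.sum_const, hnordc, smul_eq_mul] at h
    rw [show nfix G 1 = Nat.card (IrrCharacter G) from Nat.card_congr
      (Equiv.subtypeUnivEquiv fun χ => funext fun g => congrArg _ (pow_one g))] at h
    rw [h, hef, hcardG]
    ring
  have hfix_ge : Nat.card (IrrCharacter G) ≤ nfix G a + f := by
    have h := nfix_mul (G := G) hacop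
    rw [hsplit a hreg] at h
    refine Nat.le_of_mul_le_mul_right ?_ (Nat.card_pos (α := G))
    rw [hk1, Nat.add_mul]
    omega
  set R := univ.filter (fun χ : IrrCharacter G => ¬ Fixed χ)
  have hkR : Nat.card (IrrCharacter G) = nfix G a + R.card := by
    rw [hnfix, Nat.card_eq_fintype_card, ← Finset.card_univ]
    exact (Finset.card_filter_add_card_filter_not _).symm
  -- twisting preserves being moved
  let tw : ℕ → IrrCharacter G → IrrCharacter G := fun i χ => ⟨_, isIrr_comp_pow (hcopi i) χ⟩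
  have hsurj : ∀ i, Function.Surjective (fun g : G => g ^ a ^ i) := fun i => by
    have := (powCoprime (G := G) (n := a ^ i) (hcopi i).symm).surjective
    simpa [powCoprime] using this
  have htwR : ∀ i χ, χ ∈ R → tw i χ ∈ R := fun i χ hχ => by
    refine Finset.mem_filter.2 ⟨Finset.mem_univ _, fun h => (Finset.mem_filter.1 hχ).2 ?_⟩
    funext g
    obtain ⟨w, rfl⟩ := hsurj i g
    have := congrFun h w
    simp only [tw, Function.comp_apply] at this ⊢
    rwa [← pow_mul, mul_comm, pow_mul] at this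
  have hr2 : 3 ≤ (univ.filter Fixed).card := hnfix ▸ hfix3
  have hone_fix : one ∈ univ.filter Fixed := Finset.mem_filter.2 ⟨Finset.mem_univ _, rfl⟩
  have hvals : ∀ χ ∈ (univ.filter Fixed).erase one, (χ : G → ℂ) 1 = ((p - 1 : ℕ) : ℂ) ∧
      ∀ v : G, orderOf v = p → (χ : G → ℂ) v = -1 := by
    intro χ hχ
    obtain ⟨hne, hχ⟩ := Finset.mem_erase.1 hχ
    have hd' := (fixed_data hS hgen χ.2 (hne_one _ hne)
      (fun g => congrFun (Finset.mem_filter.1 hχ).2 g)).2
    exact ⟨(hd' x hx).1, fun v hv => (hd' v hv).2⟩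
  rcases Nat.lt_or_ge f 2 with hf | hf
  · -- all characters are fixed
    have hR : R = ∅ := by
      by_contra hR
      obtain ⟨χ, hχ⟩ := Finset.nonempty_of_ne_empty hR
      have hne : tw 1 χ ≠ χ := fun h => by
        refine (Finset.mem_filter.1 hχ).2 ?_
        have h' := congrArg Subtype.val h
        simpa [tw, pow_one] using h'
      have := Finset.one_lt_card.2 ⟨_, htwR 1 χ hχ, _, hχ, hne⟩
      omega
    have huniv : univ.filter Fixed = univ := Finset.eq_univ_of_forall fun χ => by
      by_contra h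
      have h' : χ ∈ R := Finset.mem_filter.2 ⟨Finset.mem_univ χ,
        fun hF => h (Finset.mem_filter.2 ⟨Finset.mem_univ χ, hF⟩)⟩
      rw [hR] at h'
      exact Finset.notMem_empty χ h'
    have h := sum_degree_mul_apply x
    have hx1 : x ≠ 1 := fun h => by rw [h, orderOf_one] at hx; exact hp.out.ne_one hx.symm
    rw [if_neg hx1, ← Finset.add_sum_erase _ _ (Finset.mem_univ one), ← huniv,
      Finset.sum_congr rfl (fun χ hχ => by rw [(hvals χ hχ).1, (hvals χ hχ).2 x hx]),
      Finset.sum_const, Finset.card_erase_of_mem hone_fix, nsmul_eq_mul] at h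
    simp only [one, one_mul] at h
    have h' : (((univ.filter Fixed).card - 1 : ℕ) : ℤ) * ((p - 1 : ℕ) : ℤ) = 1 := by
      have h2 : ((((univ.filter Fixed).card - 1 : ℕ) : ℤ) * ((p - 1 : ℕ) : ℤ) : ℂ) = 1 := by
        push_cast
        linear_combination (-1) * h
      exact_mod_cast h2
    have h2 : ((p - 1 : ℕ) : ℤ) ∣ 1 := ⟨_, by rw [mul_comm] at h'; exact h'.symm⟩
    have := Int.le_of_dvd one_pos h2
    omega
  -- one orbit of moved characters
  have hnot : ∀ i, 0 < i → i < f → ∀ g : G, p ∣ orderOf g → ntrans (a ^ i) g = 0 := by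
    intro i hi hif g hg
    rw [ntrans, Nat.card_eq_zero]
    refine Or.inl ⟨fun u => ?_⟩
    have h := hkey g (hsing g hg) u.1 (a ^ i) u.2
    rw [← pow_mul] at h
    have h' := hord hd _ h
    rw [hef, mul_comm i] at h'
    exact absurd (Nat.le_of_dvd hi (Nat.dvd_of_mul_dvd_mul_left (by omega) h')) (by omega)
  have hfixi : ∀ i, 0 < i → i < f → nfix G (a ^ i) * Nat.card G = Sreg := by
    intro i hi hif
    rw [nfix_mul (hcopi i), hsplit _ (hregi i), Finset.sum_eq_zero, add_zero]
    exact fun g hg => hnot i hi hif g (Finset.mem_filter.1 hg).2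
  have hfa : nfix G a * Nat.card G = Sreg := by simpa using hfixi 1 one_pos hf
  have hRcard : R.card = f := by
    have : (nfix G a + R.card) * Nat.card G = (nfix G a + f) * Nat.card G := by
      rw [← hkR, hk1, Nat.add_mul, hfa]
    have := Nat.eq_of_mul_eq_mul_right Nat.card_pos this
    omega
  obtain ⟨χ₀, hχ₀⟩ := Finset.card_pos.1 (show 0 < R.card by omega)
  have himg : R = (Finset.range f).image (fun i => tw i χ₀) := by
    refine (Finset.eq_of_subset_of_card_le (fun χ hχ => ?_) ?_).symm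
    · obtain ⟨i, -, rfl⟩ := Finset.mem_image.1 hχ
      exact htwR i χ₀ hχ₀
    · rw [hRcard, Finset.card_image_of_injOn, Finset.card_range]
      have key : ∀ i j, i < j → j < f → tw i χ₀ ≠ tw j χ₀ := by
        intro i j hij hjf heq
        have hfixd : (χ₀ : G → ℂ) ∘ (fun g => g ^ a ^ (j - i)) = χ₀ := by
          funext g
          obtain ⟨w, rfl⟩ := hsurj i g
          have h := congrFun (congrArg Subtype.val heq) w
          simp only [tw, Function.comp_apply] at h ⊢
          rw [← pow_mul, ← pow_add, show i + (j - i) = j by omega]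
          exact h.symm
        have hsub : univ.filter Fixed =
            univ.filter (fun χ : IrrCharacter G => (χ : G → ℂ) ∘ (fun g => g ^ a ^ (j - i)) = χ) := by
          refine Finset.eq_of_subset_of_card_le (fun χ hχ => ?_) ?_
          · refine Finset.mem_filter.2 ⟨Finset.mem_univ _, ?_⟩
            have hχ' := (Finset.mem_filter.1 hχ).2
            funext g
            simp only [Function.comp_apply]
            generalize j - i = d
            induction d with
            | zero => simp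
            | succ d ih => rw [pow_succ, pow_mul]; exact (congrFun hχ' _).trans ih
          · rw [← Fintype.card_subtype, ← Nat.card_eq_fintype_card, ← hnfix]
            refine le_of_eq (Nat.eq_of_mul_eq_mul_right (Nat.card_pos (α := G)) ?_)
            exact (hfixi (j - i) (by omega) (by omega)).trans hfa.symm
        have : χ₀ ∈ univ.filter Fixed := hsub ▸ Finset.mem_filter.2 ⟨Finset.mem_univ _, hfixd⟩
        exact (Finset.mem_filter.1 hχ₀).2 (Finset.mem_filter.1 this).2
      intro i hi j hj hij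
      simp only [Finset.coe_range, Set.mem_Iio] at hi hj
      rcases lt_trichotomy i j with h | h | h
      exacts [absurd hij (key i j h hj), h, absurd hij.symm (key j i h hi)]
  -- the three sums
  set X := Subgroup.zpowers x
  have hXc : Nat.card X = p := by rw [Nat.card_zpowers, hx]
  haveI := Fintype.ofFinite X
  obtain ⟨n, m₀, Q, hn, hm, hq, hmn, hQ⟩ := exists_restriction_bound
    (IsIrr.isCharacter χ₀.2) X (fun a b => IsCyclic.commGroup.mul_comm a b)
  rw [hXc] at hm hq
  have hnp : n < p := hS _ χ₀.2 n hn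
  have htot : ∀ (Φ : IrrCharacter G → ℂ) (c₁ c₂ : ℂ),
      (∀ χ ∈ (univ.filter Fixed).erase one, Φ χ = c₁) → (∀ i, Φ (tw i χ₀) = c₂) →
      ∑ χ, Φ χ = Φ one + (((univ.filter Fixed).card - 1 : ℕ) : ℂ) * c₁ + (f : ℂ) * c₂ := by
    intro Φ c₁ c₂ h₁ h₂
    rw [← Finset.sum_filter_add_sum_filter_not univ Fixed,
      ← Finset.add_sum_erase _ _ hone_fix, Finset.sum_congr rfl h₁, Finset.sum_const,
      Finset.card_erase_of_mem hone_fix, nsmul_eq_mul,
      show univ.filter (fun χ => ¬ Fixed χ) = R from rfl,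
      Finset.sum_eq_card_nsmul (s := R) (b := c₂) (fun χ hχ => by
        obtain ⟨i, -, rfl⟩ := Finset.mem_image.1 (himg ▸ hχ)
        exact h₂ i),
      hRcard, nsmul_eq_mul]
  have hXcop : ∀ i, (Nat.card X).Coprime (a ^ i) := fun i =>
    ((hcopi i).coprime_dvd_right (Subgroup.card_subgroup_dvd_card X)).symm
  have hperm : ∀ (i : ℕ) (F : G → ℂ), ∑ w : X, F ((w : G) ^ a ^ i) = ∑ w : X, F w := by
    intro i F
    refine Fintype.sum_equiv (powCoprime (hXcop i)) _ _ fun w => ?_
    simp [powCoprime]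
  have htw1 : ∀ i, (tw i χ₀ : G → ℂ) 1 = n := fun i => by
    simp only [tw, Function.comp_apply, one_pow, hn]
  have hX1 : ∀ w : X, (w : G) ≠ 1 → orderOf (w : G) = p := fun w hw =>
    ((Nat.dvd_prime hp.out).1 (hx ▸ orderOf_dvd_of_mem_zpowers w.2)).resolve_left
      fun h => hw (orderOf_eq_one_iff.1 h)
  set r := (univ.filter Fixed).card - 1 with hr
  have E1 : (Nat.card G : ℂ) = 1 + (r : ℂ) * ((p - 1 : ℕ) : ℂ) ^ 2 + (f : ℂ) * (n : ℂ) ^ 2 := by
    rw [← sum_sq_degree, htot _ (((p - 1 : ℕ) : ℂ) ^ 2) ((n : ℂ) ^ 2)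
      (fun χ hχ => by rw [(hvals χ hχ).1]) (fun i => by rw [htw1])]
    simp [one]
  have E2 : (Nat.card G : ℂ) = (p : ℂ) + (f : ℂ) * ((n : ℂ) * ((m₀ : ℂ) * p)) := by
    have hsum : ∑ χ : IrrCharacter G, (χ : G → ℂ) 1 * ∑ w : X, (χ : G → ℂ) w
        = (Nat.card G : ℂ) := by
      simp only [Finset.mul_sum]
      rw [Finset.sum_comm]
      simp only [sum_degree_mul_apply]
      simp
    rw [← hsum, htot _ 0 ((n : ℂ) * ((m₀ : ℂ) * p))]
    · simp only [one, Finset.sum_const, Finset.card_univ, nsmul_eq_mul, mul_one, one_mul,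
        mul_zero, add_zero, ← Nat.card_eq_fintype_card, hXc]
    · intro χ hχ
      rw [sum_const_off_one _ (fun w hw => (hvals χ hχ).2 w (hX1 w hw)), hXc, (hvals χ hχ).1,
        Nat.cast_sub hp.out.one_lt.le, Nat.cast_one]
      ring
    · intro i
      rw [htw1, ← hm]
      congr 1
      exact hperm i (χ₀ : G → ℂ)
  have E3 : (Nat.card G : ℂ) + ((p : ℂ) - 1) * p =
      (p : ℂ) + (r : ℂ) * ((p : ℂ) * ((p : ℂ) - 1)) + (f : ℂ) * ((Q : ℂ) * p) := by
    have hsum : ∑ χ : IrrCharacter G, ∑ w : X, (χ : G → ℂ) w * conj ((χ : G → ℂ) w)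
        = (Nat.card G : ℂ) + ((p : ℂ) - 1) * p := by
      rw [Finset.sum_comm]
      simp only [second_orthogonality_self]
      rw [sum_const_off_one (fun g => (Nat.card (Subgroup.centralizer ({g} : Set G)) : ℂ))
          (fun w hw => by rw [hcent _ (hX1 w hw), Nat.card_zpowers, hX1 w hw]), hXc,
        show Subgroup.centralizer ({1} : Set G) = ⊤ by ext; simp [Subgroup.mem_centralizer_iff],
        Subgroup.card_top]
    rw [← hsum, htot _ ((p : ℂ) * ((p : ℂ) - 1)) ((Q : ℂ) * p)]
    · simp only [one, Finset.sum_const, Finset.card_univ, nsmul_eq_mul, mul_one, map_one,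
        ← Nat.card_eq_fintype_card, hXc]
    · intro χ hχ
      rw [sum_const_off_one (fun g => (χ : G → ℂ) g * conj ((χ : G → ℂ) g))
        (fun w hw => by rw [(hvals χ hχ).2 w (hX1 w hw)]), hXc, (hvals χ hχ).1,
        Nat.cast_sub hp.out.one_lt.le, Nat.cast_one]
      simp only [map_neg, map_sub, map_one, Complex.conj_natCast]
      ring
    · intro i
      rw [← hq]
      exact hperm i (fun g => (χ₀ : G → ℂ) g * conj ((χ₀ : G → ℂ) g))
  rw [hcardG] at E1 E2 E3
  have hp1 : ((p - 1 : ℕ) : ℤ) = (p : ℤ) - 1 := by omega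
  have I1 : (nS : ℤ) * (p * r') = 1 + (r : ℤ) * ((p - 1 : ℕ) : ℤ) ^ 2 + (f : ℤ) * (n : ℤ) ^ 2 := by
    exact_mod_cast E1
  have I2 : (nS : ℤ) * (p * r') = (p : ℤ) + (f : ℤ) * ((n : ℤ) * ((m₀ : ℤ) * p)) := by
    exact_mod_cast E2
  have I3 : (nS : ℤ) * (p * r') + ((p : ℤ) - 1) * p =
      (p : ℤ) + (r : ℤ) * ((p : ℤ) * ((p : ℤ) - 1)) + (f : ℤ) * ((Q : ℤ) * p) := by
    exact_mod_cast E3
  rw [hp1] at I1
  have hpe : (p : ℤ) - 1 = r' * f := by rw [← hp1, hef]; push_cast; rfl
  have hpz : (p : ℤ) ≠ 0 := by exact_mod_cast hp.out.ne_zero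
  have hfz : (f : ℤ) ≠ 0 := by omega
  refine arith_false (p : ℤ) r' f n m₀ r (by omega) (by omega) (by omega) (by omega) (by omega)
    (by omega) (by omega) ?_ ?_ ?_
  · refine mul_left_cancel₀ hfz ?_
    linear_combination (-1 : ℤ) * I2 + I1 +
      ((r : ℤ) * ((p : ℤ) - 1) - 1) * hpe
  · have hQeq : (Q : ℤ) = (n : ℤ) * m₀ + r' * (1 - (r : ℤ)) := by
      refine mul_left_cancel₀ (mul_ne_zero hfz hpz) ?_
      linear_combination I2 - I3 + (p : ℤ) * (1 - (r : ℤ)) * hpe
    have hQ' : (m₀ : ℤ) ^ 2 + n ≤ (Q : ℤ) + m₀ := by exact_mod_cast hQ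
    nlinarith
  · exact ⟨nS, mul_left_cancel₀ hpz (by linear_combination (-1 : ℤ) * I2)⟩

end Cfsg.Agent.H64.DegreeLtPrime
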