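import Cfsg.Prelude.Def_Blocks
import Cfsg.Agent.CharInduce.Induce
import Cfsg.Agent.CharInduce.Twist
import Cfsg.Agent.CharBasic.Kernel
import Cfsg.Agent.H43.Galois
import Mathlib.RingTheory.ZMod.UnitsCyclic

/-!
# Groups all of whose irreducible character degrees are less than a prime `p`

Heredity of the hypothesis, and characters fixed under a power twist `g ↦ g ^ a`.
-/

set_option autoImplicit false
set_option linter.unusedSectionVars false
set_option linter.style.haveILetI false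

open scoped ComplexConjugate

namespace Cfsg.Agent.H64.DegreeLtPrime

open Cfsg.Agent.CharBasic Finset

/-- All irreducible degrees are less than `p`. -/
def Small (p : ℕ) (G : Type*) [Group G] : Prop :=
  ∀ χ : G → ℂ, IsIrrCharacter G χ → ∀ n : ℕ, χ 1 = n → n < p

variable {p : ℕ} {G : Type*} [Group G] [Finite G]

theorem small_of_charDegree (h : ∀ χ : IrrCharacter G, charDegree (χ : G → ℂ) < p) : Small p G := by
  intro χ hχ n hn
  have := h ⟨χ, hχ⟩
  simpa [charDegree, hn] using this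

theorem Small.subgroup (h : Small p G) (H : Subgroup G) : Small p H := by
  cases nonempty_fintype G
  haveI := Fintype.ofFinite H
  intro θ hθ n hn
  have hθc := IsIrr.isCharacter hθ
  have hind := CharInduce.IsChar.ind H hθc
  have hne : indFun H θ ≠ 0 := by
    intro h0
    obtain ⟨χ, hχ⟩ := CharInduce.exists_constituent (IsIrr.isCharacter hθ)
      (fun h1 => IsIrr.one_ne_zero hθ (congrFun h1 1))
    have h1 := congrFun h0 1
    simp only [indFun, Pi.zero_apply, mul_one, inv_mul_cancel, Finset.sum_const, Finset.card_univ,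
      nsmul_eq_mul] at h1
    rw [extendByZero, show (1 : G) = ((1 : H) : G) from rfl,
      Subtype.val_injective.extend_apply] at h1
    simp [IsIrr.one_ne_zero hθ, Fintype.card_ne_zero] at h1
  obtain ⟨χ, hχ⟩ := CharInduce.exists_constituent hind hne
  obtain ⟨m, -, hm⟩ := IsIrr.exists_degree χ.2
  rw [CharInduce.classInner_indFun_left H θ _ (IsIrr.isClassFunction χ.2)] at hχ
  refine lt_of_le_of_lt ?_ (h _ χ.2 m hm)
  refine CharInduce.IsChar.degree_le_of_constituent
    (CharInduce.IsChar.res (IsIrr.isCharacter χ.2) H) hθ ?_ hn hm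
  rw [← classInner_conj_symm]
  exact fun h0 => hχ ((map_eq_zero (starRingEnd ℂ)).1 h0)

theorem Small.quotient (h : Small p G) (N : Subgroup G) [N.Normal] : Small p (G ⧸ N) :=
  fun _ hχ n hn => h _ (CharInduce.IsIrr.comp hχ (QuotientGroup.mk' N)
    (QuotientGroup.mk'_surjective N)) n (by simpa using hn)

/-- A `p`-group with small degrees is abelian. -/
theorem Small.comm_of_isPGroup [Fact p.Prime] (h : Small p G) (hG : IsPGroup p G) (a b : G) :
    a * b = b * a := by
  refine (commutative_iff_forall_linear (G := G)).2 (fun χ => ?_) a b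
  obtain ⟨n, -, hn, hd, -⟩ := IsIrr.degree_dvd χ.2
  obtain ⟨k, hk⟩ := hG.exists_card_eq
  obtain ⟨i, -, rfl⟩ := (Nat.dvd_prime_pow Fact.out).1 (hk ▸ hd)
  have hlt := h _ χ.2 _ hn
  have : i = 0 := by
    by_contra hi
    exact absurd hlt (not_lt.2 (Nat.le_self_pow hi p))
  subst this
  simpa using hn

theorem Small.comm_two (h : Small 2 G) (a b : G) : a * b = b * a := by
  refine (commutative_iff_forall_linear (G := G)).2 (fun χ => ?_) a b
  obtain ⟨n, hn0, hn, -, -⟩ := IsIrr.degree_dvd χ.2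
  have := h _ χ.2 _ hn
  obtain rfl : n = 1 := by omega
  simpa using hn

/-- Powers of eigenvalues give the character on powers. -/
theorem exists_eigen {χ : G → ℂ} (hχ : IsCharacter G χ) (g : G) :
    ∃ (n : ℕ) (μ : Fin n → ℂ), χ 1 = n ∧ (∀ i, μ i ^ orderOf g = 1) ∧
      ∀ j : ℕ, χ (g ^ j) = ∑ i, μ i ^ j := by
  obtain ⟨n, ρ, rfl⟩ := hχ
  obtain ⟨b, μ, h1, h2, -⟩ := exists_eigenbasis_rep ρ g
  refine ⟨_, μ, ρ.char_one, h2, fun j => trace_eq_sum_of_eigenbasis b _ _ fun i => ?_⟩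
  induction j with
  | zero => simp
  | succ j ih =>
    rw [pow_succ, map_mul, Module.End.mul_apply, h1, map_smul, ih, smul_smul, pow_succ]
    congr 1
    ring

/-- A power map prime to `|G|` is a Galois twist. -/
theorem exists_aut_twist {a : ℕ} (ha : a.Coprime (Nat.card G)) :
    ∃ σ : ℂ ≃+* ℂ, ∀ χ : G → ℂ, IsCharacter G χ → ∀ g, σ (χ g) = χ (g ^ a) := by
  obtain ⟨σ, hσ⟩ := H43.exists_aut_pow (Nat.card_pos (α := G)).ne' ha
  refine ⟨σ, fun χ hχ g => ?_⟩
  obtain ⟨n, μ, -, hμ, hj⟩ := exists_eigen hχ g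
  have h1 := hj 1
  simp only [pow_one] at h1
  rw [h1, hj a, map_sum]
  refine Finset.sum_congr rfl fun i _ => hσ _ ?_
  obtain ⟨c, hc⟩ := orderOf_dvd_natCard g
  rw [hc, pow_mul, hμ i, one_pow]

theorem isIrr_comp_pow {a : ℕ} (ha : a.Coprime (Nat.card G)) (χ : IrrCharacter G) :
    IsIrrCharacter G ((χ : G → ℂ) ∘ fun g => g ^ a) := by
  obtain ⟨σ, hσ⟩ := exists_aut_twist (G := G) ha
  have : (fun g => σ ((χ : G → ℂ) g)) = ((χ : G → ℂ) ∘ fun g => g ^ a) :=
    funext fun g => hσ _ (IsIrr.isCharacter χ.2) g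
  exact this ▸ H43.aut_irr σ χ.2

/-- A character value whose coprime powers give the same value is an integer. -/
theorem exists_int_value {χ : G → ℂ} (hχ : IsCharacter G χ) {v : G}
    (h : ∀ k : ℕ, k.Coprime (orderOf v) → χ (v ^ k) = χ v) : ∃ k : ℤ, χ v = k := by
  obtain ⟨n, μ, -, hμ, hj⟩ := exists_eigen hχ v
  have hint : IsIntegral ℤ (χ v) := IsChar.isIntegral hχ v
  obtain ⟨q, hq⟩ := H43.rat_of_fixed hint.tower_top fun σ => by
    obtain ⟨k, hk, hkz⟩ := H43.aut_eq_pow σ (orderOf_pos v).ne'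
    have h1 := hj 1
    simp only [pow_one] at h1
    conv_rhs => rw [← h k hk, hj k]
    rw [h1, map_sum]
    exact Finset.sum_congr rfl fun i _ => hkz _ (hμ i)
  exact H43.int_of_rat_integral hint hq

/-- The sum of a character over a subgroup is a multiple of the order. -/
theorem exists_sum_subgroup {χ : G → ℂ} (hχ : IsCharacter G χ) (H : Subgroup G) [Fintype H] :
    ∃ m : ℕ, ∑ w : H, χ w = (m : ℂ) * (Nat.card H : ℂ) := by
  obtain ⟨m, hm⟩ := classInner_isChar_nat (CharInduce.IsChar.res hχ H) (CharInduce.IsChar.one (G := H))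
  refine ⟨m, ?_⟩
  rw [← hm, classInner_def]
  have := CharInduce.card_ne_zero_complex H
  field_simp
  simp

/-- The square sum of a character over a subgroup is a multiple of the order. -/
theorem exists_norm_sum_subgroup {χ : G → ℂ} (hχ : IsCharacter G χ) (H : Subgroup G) [Fintype H] :
    ∃ m : ℕ, ∑ w : H, χ w * conj (χ w) = (m : ℂ) * (Nat.card H : ℂ) := by
  obtain ⟨m, hm⟩ := classInner_isChar_nat (CharInduce.IsChar.res hχ H) (CharInduce.IsChar.res hχ H)
  refine ⟨m, ?_⟩
  rw [← hm, classInner_def]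
  have := CharInduce.card_ne_zero_complex H
  field_simp

theorem sum_const_off_one {H : Subgroup G} [Fintype H] (f : G → ℂ) {k : ℂ}
    (h : ∀ w : H, (w : G) ≠ 1 → f w = k) :
    ∑ w : H, f w = f 1 + ((Nat.card H : ℂ) - 1) * k := by
  classical
  rw [← Finset.add_sum_erase _ _ (Finset.mem_univ (1 : H)),
    Finset.sum_congr rfl fun w hw => h w fun e => Finset.ne_of_mem_erase hw (Subtype.ext e),
    Finset.sum_const, nsmul_eq_mul, Finset.card_erase_of_mem (Finset.mem_univ _), Finset.card_univ,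
    Nat.cast_sub Fintype.card_pos, Nat.cast_one, Nat.card_eq_fintype_card]
  rfl

/-- A twist exponent: trivial on `p'`-parts, generating on `p`-parts. -/
theorem exists_twist_exponent (hp : p.Prime) (hp2 : p ≠ 2) :
    ∃ a : ℕ, a.Coprime (Nat.card G) ∧
      (∀ g : G, ¬ p ∣ orderOf g → g ^ a = g) ∧
      (∀ v : G, (∃ i, orderOf v = p ^ i) → ∀ k : ℕ, k.Coprime (orderOf v) →
        ∃ j : ℕ, v ^ k = v ^ a ^ j) ∧
      (p ∣ Nat.card G → ∀ j : ℕ, a ^ j ≡ 1 [MOD p] → p - 1 ∣ j) := by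
  haveI := Fact.mk hp
  set N := Nat.card G with hN
  have hN0 : N ≠ 0 := Nat.card_pos.ne'
  set m := N.factorization p with hm
  set h := N / p ^ m with hh
  have hcop : (p ^ m).Coprime h :=
    ((hp.coprime_iff_not_dvd).2 (Nat.not_dvd_ordCompl hp hN0)).pow_left m
  haveI := ZMod.isCyclic_units_of_prime_pow p hp hp2 m
  obtain ⟨g₀, hg₀⟩ := IsCyclic.exists_generator (α := (ZMod (p ^ m))ˣ)
  obtain ⟨a, ha1, ha2⟩ := Nat.chineseRemainder hcop (g₀ : ZMod (p ^ m)).val 1
  have hcast : ((a : ℕ) : ZMod (p ^ m)) = (g₀ : ZMod (p ^ m)) := by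
    rw [(ZMod.natCast_eq_natCast_iff _ _ _).2 ha1, ZMod.natCast_zmod_val]
  have hmul : p ^ m * h = N := Nat.ordProj_mul_ordCompl_eq_self N p
  have hdvd : ∀ g : G, orderOf g ∣ p ^ m * h := fun g => hmul ▸ orderOf_dvd_natCard g
  refine ⟨a, ?_, fun g hg => ?_, fun v hv k hk => ?_, fun hpN j hj => ?_⟩
  · rw [← hmul, Nat.coprime_mul_iff_right]
    refine ⟨?_, ?_⟩
    · rw [← ZMod.isUnit_iff_coprime, hcast]
      exact g₀.isUnit
    · rw [Nat.Coprime, Nat.ModEq.gcd_eq ha2, Nat.gcd_one_left]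
  · have hd : orderOf g ∣ h :=
      Nat.Coprime.dvd_of_dvd_mul_left (Nat.Coprime.pow_right m
        ((hp.coprime_iff_not_dvd).2 hg).symm) (hdvd g)
    conv_rhs => rw [← pow_one g]
    exact pow_eq_pow_iff_modEq.2 (ha2.of_dvd hd)
  · obtain ⟨i, hi⟩ := hv
    rcases i.eq_zero_or_pos with rfl | hipos
    · exact ⟨0, by rw [orderOf_eq_one_iff.1 (hi.trans (pow_zero p)), one_pow, one_pow]⟩
    have hk' : k.Coprime (p ^ m) :=
      ((Nat.coprime_pow_right_iff hipos _ _).1 (hi ▸ hk)).pow_right m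
    have hv' : orderOf v ∣ p ^ m := by
      rw [hi]
      exact Nat.Coprime.dvd_of_dvd_mul_right
        (((hp.coprime_iff_not_dvd).2 (Nat.not_dvd_ordCompl hp hN0)).pow_left i) (hi ▸ hdvd v)
    obtain ⟨j, hj⟩ := Submonoid.mem_powers_iff _ _ |>.1
      ((mem_powers_iff_mem_zpowers).2 (hg₀ (ZMod.unitOfCoprime k hk')))
    refine ⟨j, pow_eq_pow_iff_modEq.2 (Nat.ModEq.of_dvd hv' ((ZMod.natCast_eq_natCast_iff _ _ _).1 ?_))⟩
    rw [Nat.cast_pow, hcast, ← Units.val_pow_eq_pow_val, hj, ZMod.coe_unitOfCoprime]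
  · have hm0 : 0 < m := hp.factorization_pos_of_dvd hN0 hpN
    have hord : orderOf g₀ = p ^ (m - 1) * (p - 1) := by
      rw [orderOf_eq_card_of_forall_mem_zpowers hg₀, Nat.card_eq_fintype_card,
        ZMod.card_units_eq_totient, Nat.totient_prime_pow hp hm0]
    have h1 : (ZMod.unitsMap (dvd_pow_self p hm0.ne') g₀) ^ j = 1 := by
      apply Units.ext
      rw [Units.val_pow_eq_pow_val, ZMod.unitsMap_def, Units.coe_map, MonoidHom.coe_coe, ← hcast,
        map_natCast, ← Nat.cast_pow, Units.val_one, ← Nat.cast_one,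
        (ZMod.natCast_eq_natCast_iff _ _ _).2 hj]
    have hsurj := ZMod.unitsMap_surjective (dvd_pow_self p hm0.ne')
    have hgen : ∀ u, u ∈ Subgroup.zpowers (ZMod.unitsMap (dvd_pow_self p hm0.ne') g₀) := by
      intro u
      obtain ⟨w, rfl⟩ := hsurj u
      obtain ⟨i, rfl⟩ := Subgroup.mem_zpowers_iff.1 (hg₀ w)
      exact ⟨i, (map_zpow _ g₀ i).symm⟩
    have := orderOf_dvd_of_pow_eq_one h1
    rwa [orderOf_eq_card_of_forall_mem_zpowers hgen, Nat.card_eq_fintype_card,
      ZMod.card_units_eq_totient, Nat.totient_prime hp] at this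

end Cfsg.Agent.H64.DegreeLtPrime
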