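import Cfsg.Agent.H64.DegreeLtPrime.Basic
import Cfsg.Agent.H36.Fixed
import Cfsg.Agent.H30.SmallSimple
import Mathlib.Tactic.Linarith

/-!
# No simple group with all degrees less than a prime divisor of its order
-/

set_option autoImplicit false
set_option linter.unusedSectionVars false
set_option linter.style.haveILetI false

open scoped ComplexConjugate

namespace Cfsg.Agent.H64.DegreeLtPrime

open Cfsg.Agent.CharBasic Finset

/-- The numerical contradiction for a Sylow subgroup of order `p`. -/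
theorem arith_false (p e f n m₀ r : ℤ) (hp : p = e * f + 1) (he : 2 ≤ e) (hf : 2 ≤ f) (hn : n < p)
    (hm : m₀ ≤ n) (hm0 : 0 ≤ m₀) (hr : 2 ≤ r) (heq : e + n * (p * m₀ - n) = r * e * (p - 1))
    (hle : e * (r - 1) ≤ (n - m₀) * (m₀ - 1)) (hdvd : e ∣ 1 + f * n * m₀) : False := by
  subst hp
  obtain ⟨X, rfl⟩ : ∃ X, n = m₀ + X := ⟨n - m₀, by ring⟩
  have hX0 : 0 < X := by nlinarith
  have hm2 : 2 ≤ m₀ := by nlinarith
  set u := e * f - m₀ - X with hu
  have hu0 : 0 ≤ u := by rw [hu]; omega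
  set t := r * e - m₀ ^ 2 - X * (m₀ - 1) with ht
  have ht1 : t * (e * f) = X * u + e := by rw [ht, hu]; linear_combination (-1) * heq
  have ht0 : 0 < t := by
    by_contra h
    nlinarith [mul_nonneg hX0.le hu0, mul_pos (show (0 : ℤ) < e by omega) (show (0 : ℤ) < f by omega)]
  -- `e` divides `X`
  have hXe : e ∣ X := by
    have hcop : IsCoprime e (m₀ + X) := by
      obtain ⟨c, hc⟩ := hdvd
      exact ⟨c, -(f * m₀), by linear_combination (-1) * hc⟩
    refine hcop.dvd_of_dvd_mul_right ⟨X * f - t * f + 1, ?_⟩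
    rw [hu] at ht1
    linear_combination ht1
  obtain ⟨M, rfl⟩ := hXe
  have hM0 : 0 < M := pos_of_mul_pos_right hX0 (by omega)
  have hMf : M < f := by nlinarith
  -- `e = m₀ ^ 2 + t`
  have hte : e = m₀ ^ 2 + t := by
    have h1 : e * (r - M * (m₀ - 1)) = m₀ ^ 2 + t := by rw [ht]; ring
    have h2 : 0 < r - M * (m₀ - 1) := by
      by_contra h
      nlinarith
    have h3 : r - M * (m₀ - 1) ≤ 1 := by
      by_contra h
      nlinarith
    have h4 : r - M * (m₀ - 1) = 1 := by omega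
    rw [h4, mul_one] at h1
    exact h1
  have htf : t * f = M * u + 1 := by
    refine mul_left_cancel₀ (show e ≠ 0 by omega) ?_
    linear_combination ht1
  rw [hu] at htf
  -- `e` divides `M m₀`
  have hMm : e ∣ M * m₀ := by
    obtain ⟨c, hc⟩ := hdvd
    refine ⟨c - M * f * m₀ - f + M * f - M * M, ?_⟩
    linear_combination hc + htf + f * hte
  have hle2 : e ≤ M * m₀ := Int.le_of_dvd (by positivity) hMm
  have hMM : f - 1 ≤ M * (f - M) := by nlinarith
  nlinarith

variable {p : ℕ} [hp : Fact p.Prime] {G : Type*} [Group G] [Finite G] [IsSimpleGroup G]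

/-- A nontrivial irreducible character of a simple group has trivial kernel and centre. -/
theorem faithful {χ : G → ℂ} (hχ : IsIrrCharacter G χ)
    (h1 : χ ≠ fun _ => 1) :
    (∀ g, χ g = χ 1 → g = 1) ∧ ∀ g, ‖χ g‖ = ‖χ 1‖ → ∀ h, g * h = h * g := by
  cases nonempty_fintype G
  have hc := IsIrr.isCharacter hχ
  have hker : ∀ g, χ g = χ 1 → g = 1 := by
    obtain ⟨K, hK, hKm⟩ := IsChar.exists_kernel hc
    intro g hg
    rcases hK.eq_bot_or_eq_top with rfl | rfl
    · exact Subgroup.mem_bot.1 ((hKm.1 g).2 hg)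
    · exfalso
      apply h1
      have hconst : χ = fun _ => χ 1 := funext fun a => (hKm.1 a).1 (Subgroup.mem_top a)
      obtain ⟨n, hn0, hn⟩ := IsIrr.exists_degree hχ
      have h := classInner_irr_self hχ
      rw [hconst, hn] at h
      simp [classInner_def] at h
      have : n = 1 := Nat.dvd_one.1 ⟨n, by exact_mod_cast h.symm⟩
      subst this
      rw [hconst, hn, Nat.cast_one]
  refine ⟨hker, fun g hg h => ?_⟩
  obtain ⟨n, ρ, rfl⟩ := hc
  obtain ⟨ω, hω⟩ := (IsChar.norm_eq_iff_scalar ρ g).1 hg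
  have hk : ρ.character (g * h * g⁻¹ * h⁻¹) = ρ.character 1 := by
    have hl : ρ g * ρ h = ρ h * ρ g := by
      rw [hω]; ext v; simp
    show LinearMap.trace ℂ _ (ρ _) = LinearMap.trace ℂ _ (ρ 1)
    congr 1
    rw [map_mul, map_mul, map_mul, hl, mul_assoc (ρ h), ← map_mul ρ g, mul_inv_cancel, map_one,
      mul_one, ← map_mul, mul_inv_cancel, map_one]
  have := hker _ hk
  rw [mul_inv_eq_one, mul_inv_eq_iff_eq_mul] at this
  exact this

/-- A fixed nontrivial character has degree `p - 1` and is `-1` on elements of order `p`. -/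
theorem fixed_data (hS : Small p G) {a : ℕ}
    (hgen : ∀ v : G, (∃ i, orderOf v = p ^ i) → ∀ k : ℕ, k.Coprime (orderOf v) →
      ∃ j : ℕ, v ^ k = v ^ a ^ j)
    {χ : G → ℂ} (hχ : IsIrrCharacter G χ) (h1 : χ ≠ fun _ => 1)
    (hfix : ∀ g, χ (g ^ a) = χ g) :
    (∀ v : G, (∃ i, orderOf v = p ^ i) → ∀ k : ℕ, k.Coprime (orderOf v) → χ (v ^ k) = χ v) ∧
      ∀ v : G, orderOf v = p → χ 1 = ((p - 1 : ℕ) : ℂ) ∧ χ v = -1 := by
  cases nonempty_fintype G
  have hc := IsIrr.isCharacter hχ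
  have hj : ∀ (v : G) (j : ℕ), χ (v ^ a ^ j) = χ v := by
    intro v j
    induction j with
    | zero => simp
    | succ j ih => rw [pow_succ, pow_mul, hfix, ih]
  have hinv : ∀ v : G, (∃ i, orderOf v = p ^ i) → ∀ k : ℕ, k.Coprime (orderOf v) →
      χ (v ^ k) = χ v := fun v hv k hk => by
    obtain ⟨j, hj'⟩ := hgen v hv k hk
    rw [hj', hj]
  refine ⟨hinv, fun v hv => ?_⟩
  have hvp : ∃ i, orderOf v = p ^ i := ⟨1, by rw [hv, pow_one]⟩
  obtain ⟨k, hk⟩ := exists_int_value hc (hinv v hvp)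
  obtain ⟨n, hn0, hn⟩ := IsIrr.exists_degree hχ
  have hnp : n < p := hS χ hχ n hn
  haveI := Fintype.ofFinite (Subgroup.zpowers v)
  have hcard : Nat.card (Subgroup.zpowers v) = p := by rw [Nat.card_zpowers, hv]
  have hoff : ∀ w : Subgroup.zpowers v, (w : G) ≠ 1 → χ w = (k : ℂ) := by
    rintro ⟨w, hw⟩ hw1
    obtain ⟨j, rfl⟩ := (mem_powers_iff_mem_zpowers).2 hw
    rw [← hk]
    refine hinv v hvp j ?_
    rw [hv, Nat.coprime_comm, hp.out.coprime_iff_not_dvd]
    rintro ⟨c, rfl⟩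
    apply hw1
    show v ^ (p * c) = 1
    rw [pow_mul, ← hv, pow_orderOf_eq_one, one_pow]
  obtain ⟨m, hm⟩ := exists_sum_subgroup hc (Subgroup.zpowers v)
  rw [sum_const_off_one χ hoff, hcard, hn] at hm
  have hm' : (n : ℤ) + ((p : ℤ) - 1) * k = m * p := by exact_mod_cast hm
  have hk1 : k ≠ n := by
    rintro rfl
    have : v = 1 := (faithful hχ h1).1 v (by rw [hk, hn]; simp)
    rw [this, orderOf_one] at hv
    exact hp.out.ne_one hv.symm
  have hkn : |k| ≤ n := by
    have := IsChar.norm_le hc v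
    rw [hk, hn] at this
    simp only [Complex.norm_intCast, Complex.norm_natCast] at this
    exact_mod_cast this
  obtain ⟨hk2, hk3⟩ := abs_le.1 hkn
  have hp1 := hp.out.one_lt
  -- `n - k` is a positive multiple of `p` below `2 p`
  have hd : (n : ℤ) - k = p * (m - k) := by linear_combination hm'
  have h1' : (m : ℤ) - k = 1 := by
    have e1 : 0 < (m : ℤ) - k := by
      by_contra h
      have h' : (m : ℤ) - k ≤ 0 := by omega
      nlinarith [lt_of_le_of_ne hk3 hk1]
    have e2 : (m : ℤ) - k < 2 := by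
      by_contra h
      have h' : 2 ≤ (m : ℤ) - k := by omega
      nlinarith
    omega
  rw [h1', mul_one] at hd
  have hn1 : n = p - 1 := by
    have : (0 : ℤ) ≤ m := by positivity
    omega
  refine ⟨by rw [hn, hn1], ?_⟩
  have : k = -1 := by omega
  rw [hk, this]
  simp

/-- A fixed nontrivial character forces Sylow subgroups of order `p`. -/
theorem card_sylow_of_fixed (hS : Small p G) (hp2 : p ≠ 2)
    (hd : p ∣ Nat.card G) {a : ℕ}
    (hgen : ∀ v : G, (∃ i, orderOf v = p ^ i) → ∀ k : ℕ, k.Coprime (orderOf v) →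
      ∃ j : ℕ, v ^ k = v ^ a ^ j)
    {χ : G → ℂ} (hχ : IsIrrCharacter G χ) (h1 : χ ≠ fun _ => 1)
    (hfix : ∀ g, χ (g ^ a) = χ g) (P : Sylow p G) : Nat.card (P : Subgroup G) = p := by
  classical
  cases nonempty_fintype G
  have hc := IsIrr.isCharacter hχ
  obtain ⟨hinv, hdata⟩ := fixed_data hS hgen hχ h1 hfix
  have hcomm := Small.comm_of_isPGroup (hS.subgroup (P : Subgroup G)) P.2
  have hp3 : 3 ≤ p := by have := hp.out.two_le; omega
  obtain ⟨x, hx⟩ := exists_prime_orderOf_dvd_card' (G := (P : Subgroup G)) p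
    (P.dvd_card_of_dvd_card hd)
  have hx' : orderOf (x : G) = p := by rw [Subgroup.orderOf_coe, hx]
  obtain ⟨hdeg, -⟩ := hdata _ hx'
  -- no element of order `p ^ 2`
  have hno : ∀ z : G, orderOf z ≠ p ^ 2 := by
    intro z hz
    haveI := Fintype.ofFinite (Subgroup.zpowers z)
    have hzp : ∃ i, orderOf z = p ^ i := ⟨2, hz⟩
    obtain ⟨k, hk⟩ := exists_int_value hc (hinv z hzp)
    have hcard : Nat.card (Subgroup.zpowers z) = p ^ 2 := by rw [Nat.card_zpowers, hz]
    set S := Subgroup.zpowers z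
    let f : S → ℕ := fun w => orderOf (w : G)
    have hval : ∀ w : S, χ w = if f w = 1 then ((p - 1 : ℕ) : ℂ) else if f w = p then -1 else k := by
      rintro ⟨w, hw⟩
      obtain ⟨j, rfl⟩ := (mem_powers_iff_mem_zpowers).2 hw
      simp only [f]
      split_ifs with h₁ h₂
      · show χ (z ^ j) = _
        rw [orderOf_eq_one_iff.1 h₁, hdeg]
      · exact (hdata _ h₂).2
      · show χ (z ^ j) = _
        rw [← hk]
        refine hinv z hzp j ?_
        rw [hz]
        refine Nat.Coprime.pow_right 2 ?_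
        rw [Nat.coprime_comm, hp.out.coprime_iff_not_dvd]
        rintro ⟨c, rfl⟩
        have hd' : orderOf (z ^ (p * c)) ∣ p := by
          refine orderOf_dvd_of_pow_eq_one ?_
          rw [← pow_mul, show p * c * p = p ^ 2 * c by ring, pow_mul, ← hz, pow_orderOf_eq_one,
            one_pow]
        rcases (Nat.dvd_prime hp.out).1 hd' with h | h
        exacts [h₁ h, h₂ h]
    have hfc : ∀ d, d ∣ p ^ 2 → (univ.filter fun w : S => f w = d).card = d.totient := by
      intro d hd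
      rw [← IsCyclic.card_orderOf_eq_totient (α := S) (d := d)
        (by rwa [← Nat.card_eq_fintype_card, hcard])]
      exact congrArg Finset.card (Finset.filter_congr fun w _ => by
        simp only [f, Subgroup.orderOf_coe])
    have hsplit : ∀ g : ℕ → ℂ, ∑ w : S, g (f w) =
        g 1 + ((p - 1 : ℕ) : ℂ) * g p + ((p * (p - 1) : ℕ) : ℂ) * g (p ^ 2) := by
      intro g
      rw [← Finset.sum_fiberwise_of_maps_to (t := ({1, p, p ^ 2} : Finset ℕ)) (g := f)
        (fun w _ => by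
          have : f w ∣ p ^ 2 := hz ▸ orderOf_dvd_of_mem_zpowers w.2
          obtain ⟨i, hi, hfw⟩ := (Nat.dvd_prime_pow hp.out).1 this
          rw [hfw]
          interval_cases i <;> simp)]
      have e1 : (1 : ℕ) ≠ p := hp.out.ne_one.symm
      have e2 : (1 : ℕ) ≠ p ^ 2 := (Nat.one_lt_pow two_ne_zero hp.out.one_lt).ne
      have e3 : p ≠ p ^ 2 := by nlinarith
      rw [Finset.sum_insert (by simp [e1, e2]), Finset.sum_pair e3]
      have hd1 : ∀ d, d ∣ p ^ 2 → ∑ w ∈ univ.filter (fun w : S => f w = d), g (f w) =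
          (d.totient : ℂ) * g d := fun d hd => by
        rw [Finset.sum_congr rfl (fun w hw => by rw [(Finset.mem_filter.1 hw).2]), Finset.sum_const,
          hfc d hd, nsmul_eq_mul]
      rw [hd1 1 (one_dvd _), hd1 p (dvd_pow_self p two_ne_zero), hd1 _ dvd_rfl, Nat.totient_one,
        Nat.totient_prime hp.out, Nat.totient_prime_pow hp.out two_pos, show 2 - 1 = 1 from rfl, pow_one]
      push_cast
      ring
    have e21 : (p : ℕ) ^ 2 ≠ 1 := (Nat.one_lt_pow two_ne_zero hp.out.one_lt).ne'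
    have e2p : (p : ℕ) ^ 2 ≠ p := by nlinarith
    let g₀ : ℕ → ℂ := fun d => if d = 1 then ((p - 1 : ℕ) : ℂ) else if d = p then -1 else k
    obtain ⟨m, hm⟩ := exists_sum_subgroup hc S
    rw [Finset.sum_congr rfl (fun w _ => hval w), hsplit g₀, hcard] at hm
    obtain ⟨q, hq⟩ := exists_norm_sum_subgroup hc S
    rw [Finset.sum_congr rfl (fun w _ => by rw [hval w]),
      hsplit (fun d => g₀ d * conj (g₀ d)), hcard] at hq
    simp only [g₀, if_pos rfl, if_neg hp.out.ne_one, if_neg e21, if_neg e2p] at hm hq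
    push_cast [map_neg, map_one, map_intCast, map_natCast] at hm hq
    have hm' : ((p - 1 : ℕ) : ℤ) - ((p - 1 : ℕ) : ℤ) + ((p : ℤ) * ((p - 1 : ℕ) : ℤ)) * k
        = m * (p : ℤ) ^ 2 := by
      have : (((p - 1 : ℕ) : ℤ) - ((p - 1 : ℕ) : ℤ) + ((p : ℤ) * ((p - 1 : ℕ) : ℤ)) * k : ℂ)
          = ((m : ℂ) * (p : ℂ) ^ 2) := by
        push_cast
        linear_combination hm
      exact_mod_cast this
    have hq' : ((p - 1 : ℕ) : ℤ) ^ 2 + ((p - 1 : ℕ) : ℤ) + ((p : ℤ) * ((p - 1 : ℕ) : ℤ)) * k ^ 2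
        = q * (p : ℤ) ^ 2 := by
      have : ((((p - 1 : ℕ) : ℤ) ^ 2 + ((p - 1 : ℕ) : ℤ) +
          ((p : ℤ) * ((p - 1 : ℕ) : ℤ)) * k ^ 2 : ℤ) : ℂ) = ((q : ℂ) * (p : ℂ) ^ 2) := by
        push_cast
        linear_combination hq
      exact_mod_cast this
    rw [Nat.cast_sub hp.out.one_lt.le, Nat.cast_one] at hm' hq'
    have hpk : (p : ℤ) ∣ k := ⟨(k : ℤ) - m, mul_left_cancel₀
      (show (p : ℤ) ≠ 0 by exact_mod_cast hp.out.ne_zero) (by linear_combination (-1) * hm')⟩
    obtain ⟨c, rfl⟩ := hpk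
    have hdv : (p : ℤ) ∣ 1 := ⟨1 + ((p : ℤ) - 1) * p * c ^ 2 - q, mul_left_cancel₀
      (show (p : ℤ) ≠ 0 by exact_mod_cast hp.out.ne_zero) (by linear_combination (-1) * hq')⟩
    have := Int.le_of_dvd one_pos hdv
    omega
  -- at most `p` elements with `g ^ p = 1`
  let H : Subgroup G :=
    { carrier := {g | g ∈ (P : Subgroup G) ∧ g ^ p = 1}
      one_mem' := ⟨one_mem _, one_pow _⟩
      mul_mem' := fun {a b} ha hb => ⟨mul_mem ha.1 hb.1, by
        have : Commute a b := congrArg Subtype.val (hcomm ⟨a, ha.1⟩ ⟨b, hb.1⟩)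
        rw [this.mul_pow, ha.2, hb.2, one_mul]⟩
      inv_mem' := fun {a} ha => ⟨inv_mem ha.1, by rw [inv_pow, ha.2, inv_one]⟩ }
  have hHP : (P : Subgroup G) ≤ H := by
    intro g hg
    refine ⟨hg, orderOf_dvd_iff_pow_eq_one.1 ?_⟩
    obtain ⟨i, hi⟩ := IsPGroup.iff_orderOf.1 P.2 ⟨g, hg⟩
    rw [Subgroup.orderOf_mk] at hi
    rcases Nat.lt_or_ge i 2 with h | h
    · rw [hi]
      exact (pow_dvd_pow p (show i ≤ 1 by omega)).trans (pow_one p).dvd
    · exfalso
      refine hno (g ^ p ^ (i - 2)) ?_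
      rw [orderOf_pow_of_dvd (pow_ne_zero _ hp.out.ne_zero) (by rw [hi]; exact pow_dvd_pow p (by omega)), hi,
        Nat.pow_div (by omega) hp.out.pos]
      congr 1; omega
  haveI := Fintype.ofFinite H
  have hoff : ∀ w : H, (w : G) ≠ 1 → χ w = -1 := by
    intro w hw
    refine (hdata _ ?_).2
    exact orderOf_eq_prime w.2.2 hw
  obtain ⟨m, hm⟩ := exists_sum_subgroup hc H
  rw [sum_const_off_one χ hoff, hdeg] at hm
  have hHle : Nat.card H ≤ p := by
    have h' : ((p - 1 : ℕ) : ℤ) + ((Nat.card H : ℤ) - 1) * (-1) = m * (Nat.card H : ℤ) := by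
      exact_mod_cast hm
    have : (0 : ℤ) ≤ m * (Nat.card H : ℤ) := by positivity
    omega
  refine le_antisymm ((Nat.le_of_dvd Nat.card_pos (Subgroup.card_dvd_of_le hHP)).trans hHle) ?_
  calc p = orderOf x := hx.symm
    _ ≤ Nat.card (P : Subgroup G) := Nat.le_of_dvd Nat.card_pos (orderOf_dvd_natCard x)

theorem geom_root {o : ℕ} {z : ℂ} (hz : z ^ o = 1) :
    ∑ i ∈ Finset.range o, z ^ i = if z = 1 then (o : ℂ) else 0 := by
  split_ifs with h
  · simp [h]
  · rw [geom_sum_eq h, hz, sub_self, zero_div]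

/-- A fixed nontrivial character forces elements of order `p` to centralize no nontrivial
`p'`-element. -/
theorem eq_one_of_commute_of_fixed (hG : ¬ IsMulCommutative G) (hS : Small p G)
    {a : ℕ} (hreg : ∀ g : G, ¬ p ∣ orderOf g → g ^ a = g)
    (hgen : ∀ v : G, (∃ i, orderOf v = p ^ i) → ∀ k : ℕ, k.Coprime (orderOf v) →
      ∃ j : ℕ, v ^ k = v ^ a ^ j)
    {χ : G → ℂ} (hχ : IsIrrCharacter G χ) (h1 : χ ≠ fun _ => 1)
    (hfix : ∀ g, χ (g ^ a) = χ g) {x d : G} (hx : orderOf x = p) (hd : ¬ p ∣ orderOf d)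
    (hcom : Commute x d) : d = 1 := by
  classical
  have hc := IsIrr.isCharacter hχ
  obtain ⟨hinv, hdata⟩ := fixed_data hS hgen hχ h1 hfix
  obtain ⟨hdeg, hxv⟩ := hdata x hx
  set o := orderOf d with ho
  have hcop : p.Coprime o := hp.out.coprime_iff_not_dvd.2 hd
  obtain ⟨A, hA1, hA2⟩ := Nat.chineseRemainder hcop 1 0
  obtain ⟨B, hB1, hB2⟩ := Nat.chineseRemainder hcop 0 1
  have hgA : (x * d) ^ A = x := by
    rw [hcom.mul_pow, pow_eq_pow_iff_modEq.2 (hx.symm ▸ hA1 : A ≡ 1 [MOD orderOf x]), pow_one,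
      pow_eq_pow_iff_modEq.2 (hA2 : A ≡ 0 [MOD orderOf d]), pow_zero, mul_one]
  have hgB : (x * d) ^ B = d := by
    rw [hcom.mul_pow, pow_eq_pow_iff_modEq.2 (hx.symm ▸ hB1 : B ≡ 0 [MOD orderOf x]), pow_zero,
      pow_eq_pow_iff_modEq.2 (hB2 : B ≡ 1 [MOD orderOf d]), pow_one, one_mul]
  obtain ⟨n, μ, hn, hμ, hpow⟩ := exists_eigen hc (x * d)
  have hnp : n = p - 1 := by exact_mod_cast hn.symm.trans hdeg
  set α : Fin n → ℂ := fun k => μ k ^ A
  set β : Fin n → ℂ := fun k => μ k ^ B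
  have hαp : ∀ k, α k ^ p = 1 := fun k => by
    have : (x * d) ^ (A * p) = 1 := by rw [pow_mul, hgA, ← hx, pow_orderOf_eq_one]
    obtain ⟨c, hc'⟩ := orderOf_dvd_of_pow_eq_one this
    show (μ k ^ A) ^ p = 1
    rw [← pow_mul, hc', pow_mul, hμ k, one_pow]
  have hβo : ∀ k, β k ^ o = 1 := fun k => by
    have : (x * d) ^ (B * o) = 1 := by rw [pow_mul, hgB, ho, pow_orderOf_eq_one]
    obtain ⟨c, hc'⟩ := orderOf_dvd_of_pow_eq_one this
    show (μ k ^ B) ^ o = 1
    rw [← pow_mul, hc', pow_mul, hμ k, one_pow]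
  have hcd : ∀ c i : ℕ, χ (x ^ c * d ^ i) = ∑ k, α k ^ c * β k ^ i := by
    intro c i
    rw [show x ^ c = (x * d) ^ (A * c) by rw [pow_mul, hgA],
      show d ^ i = (x * d) ^ (B * i) by rw [pow_mul, hgB], ← pow_add, hpow]
    exact Finset.sum_congr rfl fun k _ => by simp only [α, β]; rw [← pow_mul, ← pow_mul, pow_add]
  have hcox : ∀ c ∈ Finset.range p, c ≠ 0 → c.Coprime (orderOf x) := fun c hc' hc0 => by
    rw [hx, Nat.coprime_comm, hp.out.coprime_iff_not_dvd]
    intro hdvd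
    have := Nat.le_of_dvd (Nat.pos_of_ne_zero hc0) hdvd
    have := Finset.mem_range.1 hc'
    omega
  have hp1 := hp.out.one_lt
  -- the eigenvalues of `x` are nontrivial
  have hα1 : ∀ k, ∑ c ∈ Finset.range p, α k ^ c = 0 := by
    have h0 : ∑ c ∈ Finset.range p, χ (x ^ c) = 0 := by
      rw [← Finset.add_sum_erase _ _ (Finset.mem_range.2 hp.out.pos), pow_zero, hdeg,
        Finset.sum_congr rfl (fun c hc' => by
          rw [hinv x ⟨1, by rw [hx, pow_one]⟩ c (hcox c (Finset.mem_of_mem_erase hc')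
            (Finset.ne_of_mem_erase hc')), hxv]),
        Finset.sum_const, Finset.card_erase_of_mem (Finset.mem_range.2 hp.out.pos),
        Finset.card_range, nsmul_eq_mul]
      ring
    have h0' : ∑ k, ∑ c ∈ Finset.range p, α k ^ c = 0 := by
      rw [Finset.sum_comm, ← h0]
      refine Finset.sum_congr rfl fun c _ => ?_
      have := hcd c 0
      simp only [pow_zero, mul_one] at this
      exact this.symm
    simp only [geom_root (hαp _)] at h0' ⊢
    rw [← Finset.sum_filter, Finset.sum_const, nsmul_eq_mul, mul_eq_zero] at h0'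
    intro k
    rw [if_neg]
    intro hk
    rcases h0' with h | h
    · exact (Finset.card_pos.2 ⟨k, Finset.mem_filter.2 ⟨Finset.mem_univ k, hk⟩⟩).ne'
        (by exact_mod_cast h)
    · exact hp.out.ne_zero (by exact_mod_cast h)
  -- the twist is trivial on `d`
  have hφ : ∀ c ∈ Finset.range p, c ≠ 0 → ∀ i : ℕ, χ (x ^ c * d ^ i) = χ (x * d ^ i) := by
    intro c hc' hc0 i
    obtain ⟨j, hj⟩ := hgen x ⟨1, by rw [hx, pow_one]⟩ c (hcox c hc' hc0)
    have hdj : ∀ j : ℕ, (d ^ i) ^ a ^ j = d ^ i := fun j => by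
      have : (d ^ i) ^ a = d ^ i := hreg _ fun h => hd (h.trans (orderOf_pow_dvd i))
      induction j with
      | zero => simp
      | succ j ih => rw [pow_succ, pow_mul, ih, this]
    conv_rhs => rw [← show χ ((x * d ^ i) ^ a ^ j) = χ (x * d ^ i) from by
      clear hj hdj
      induction j with
      | zero => simp
      | succ j ih => rw [pow_succ, pow_mul, hfix, ih]]
    rw [(hcom.pow_right i).mul_pow, hdj, ← hj]
  have hrel : ∀ i : ℕ, χ (d ^ i) + ((p - 1 : ℕ) : ℂ) * χ (x * d ^ i) = 0 := by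
    intro i
    have h0 : ∑ c ∈ Finset.range p, χ (x ^ c * d ^ i) = 0 := by
      simp only [hcd]
      rw [Finset.sum_comm]
      exact Finset.sum_eq_zero fun k _ => by rw [← Finset.sum_mul, hα1 k, zero_mul]
    rw [← Finset.add_sum_erase _ _ (Finset.mem_range.2 hp.out.pos), pow_zero, one_mul,
      Finset.sum_congr rfl (fun c hc' => hφ c (Finset.mem_of_mem_erase hc')
        (Finset.ne_of_mem_erase hc') i),
      Finset.sum_const, Finset.card_erase_of_mem (Finset.mem_range.2 hp.out.pos),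
      Finset.card_range, nsmul_eq_mul] at h0
    exact h0
  -- multiplicity of an eigenvalue of `d`
  haveI : Nonempty (Fin n) := ⟨⟨0, by omega⟩⟩
  obtain ⟨k₀⟩ := ‹Nonempty (Fin n)›
  set β₀ := β k₀
  have ho0 : o ≠ 0 := (orderOf_pos d).ne'
  have hproj : ∀ γ : Fin n → ℂ, ∑ i ∈ Finset.range o, (∑ k, γ k * β k ^ i) * (β₀⁻¹) ^ i =
      (o : ℂ) * ∑ k ∈ univ.filter (fun k => β k = β₀), γ k := by
    intro γ
    rw [Finset.sum_congr rfl (fun i _ => Finset.sum_mul _ _ _), Finset.sum_comm, Finset.mul_sum,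
      Finset.sum_filter]
    refine Finset.sum_congr rfl fun k _ => ?_
    rw [Finset.sum_congr rfl (fun i _ => by rw [mul_assoc, ← mul_pow]), ← Finset.mul_sum,
      geom_root (by rw [mul_pow, inv_pow, hβo, hβo, inv_one, one_mul])]
    have hb0 : β₀ ≠ 0 := fun h => by
      have := hβo k₀
      rw [show β k₀ = β₀ from rfl, h, zero_pow ho0] at this
      exact zero_ne_one this
    simp only [mul_inv_eq_one₀ hb0, mul_ite, mul_zero]
    rw [mul_comm]
  set T := ∑ k ∈ univ.filter (fun k => β k = β₀), α k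
  set N := (univ.filter (fun k => β k = β₀)).card
  have hNT : (N : ℂ) + ((p - 1 : ℕ) : ℂ) * T = 0 := by
    refine mul_left_cancel₀ (Nat.cast_ne_zero.2 ho0 : (o : ℂ) ≠ 0) ?_
    have e1 := hproj (fun _ => 1)
    have e2 := hproj α
    rw [Finset.sum_const, nsmul_eq_mul, mul_one] at e1
    rw [mul_add, mul_left_comm, ← e1, ← e2, mul_zero, Finset.mul_sum, ← Finset.sum_add_distrib]
    refine Finset.sum_eq_zero fun i _ => ?_
    have e3 := hrel i
    have f1 := hcd 0 i
    have f2 := hcd 1 i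
    simp only [pow_zero, one_mul, pow_one] at f1 f2
    rw [f1, f2] at e3
    simp only [one_mul]
    linear_combination (β₀⁻¹) ^ i * e3
  have hTint : IsIntegral ℤ T := IsIntegral.sum _ fun k _ =>
    IsIntegral.of_pow hp.out.pos (by rw [hαp k]; exact isIntegral_one)
  have hpc : ((p - 1 : ℕ) : ℂ) ≠ 0 := Nat.cast_ne_zero.2 (by omega)
  obtain ⟨t, ht⟩ := H43.int_of_rat_integral hTint (q := -(N : ℚ) / ((p - 1 : ℕ) : ℚ)) (by
    push_cast
    rw [eq_div_iff hpc]
    linear_combination hNT)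
  have hNp : N = p - 1 := by
    rw [ht] at hNT
    have hz : (N : ℤ) + ((p - 1 : ℕ) : ℤ) * t = 0 := by exact_mod_cast hNT
    have hN1 : 0 < N := Finset.card_pos.2 ⟨k₀, by simp [β₀]⟩
    have hNn : N ≤ n := (Finset.card_filter_le _ _).trans (by simp)
    have ht0 : t < 0 := by
      by_contra h
      have : (0 : ℤ) ≤ t := by omega
      nlinarith
    have ht1 : -1 ≤ t := by
      by_contra h
      have : t ≤ -2 := by omega
      nlinarith [show (0 : ℤ) ≤ ((p - 1 : ℕ) : ℤ) by positivity]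
    obtain rfl : t = -1 := by omega
    omega
  have hall : ∀ k, β k = β₀ := fun k => by
    have := (Finset.eq_univ_of_card (univ.filter (fun k => β k = β₀))
      (by rw [Fintype.card_fin]; omega))
    exact (Finset.mem_filter.1 (this.symm ▸ Finset.mem_univ k :
      k ∈ univ.filter (fun k => β k = β₀))).2
  have hnorm : ‖χ d‖ = ‖χ 1‖ := by
    have f1 := hcd 0 1
    simp only [pow_zero, one_mul, pow_one] at f1
    rw [f1, Finset.sum_congr rfl (fun k _ => hall k), Finset.sum_const, Finset.card_univ,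
      Fintype.card_fin, nsmul_eq_mul, norm_mul, Complex.norm_eq_one_of_pow_eq_one (hβo k₀) ho0,
      mul_one, hn]
  refine (Subgroup.mem_bot).1 ((?_ : Subgroup.center G = ⊥) ▸
    Subgroup.mem_center_iff.2 fun h => ((faithful hχ h1).2 d hnorm h).symm)
  refine (Subgroup.Normal.eq_bot_or_eq_top inferInstance).resolve_right fun ht =>
    hG ⟨⟨fun u v => (Subgroup.mem_center_iff.1 (ht ▸ Subgroup.mem_top v) u)⟩⟩

end Cfsg.Agent.H64.DegreeLtPrime
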